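import Groth.Agent.LimPresLib.AffineImm

/-!
# Embedding into an affine space when the graph is an immersion
-/

set_option autoImplicit false
set_option backward.isDefEq.respectTransparency false
set_option backward.isDefEq.respectTransparency.types false

universe u

open CategoryTheory Limits Opposite AlgebraicGeometry AlgSp Groth.Agent.AlgSpLib Groth.Agent.AlgSpPts
  Groth.Agent.LimPresLib
open Groth.Agent.AlgSpDec (mono_of_openImm exists_affine_atlas isQuasiCompactSp_of_affine isOpenEmbedding_map')

namespace Groth.Agent.DenseImm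

variable {S : Scheme.{u}}

/-- A morphism of finite type from an affine scheme with immersed graph embeds into an affine space. -/
theorem exists_immersion_affineSpace_of_graph [QuasiSeparatedSpace ↥S] (X : Space S) (hqs : IsQuasiSeparatedSp X.obj)
    (U : Over S) [IsAffine U.left] (f : (yon S).obj U ⟶ X.obj)
    (hg : RepWith @IsImmersion (prod.lift f (𝟙 ((yon S).obj U))))
    (hf : LocP @LocallyOfFiniteType f) :
    ∃ (n : ℕ) (i : (yon S).obj U ⟶ X.obj ⨯ (yon S).obj (aff (ULift.{u} (Fin n)) S)),
      i ≫ prod.fst = f ∧ RepWith @IsImmersion i := by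
  classical
  let A : Type u := Γ(U.left, ⊤)
  let ι : U ⟶ aff A S := Over.homMk (AffineSpace.homOfVector U.hom id) (AffineSpace.homOfVector_over _ _)
  have hι : IsImmersion ι.left := by
    have : IsClosedImmersion (ι.left ≫ AffineSpace.toSpecMvPoly A S) := by
      refine IsClosedImmersion.of_surjective_of_isAffine _ fun (a : A) => ?_
      refine ⟨(Scheme.ΓSpecIso _).inv (MvPolynomial.X a), ?_⟩
      have := congrFun ((AffineSpace.toSpecMvPolyIntEquiv A).apply_symm_apply (id : A → A)) a
      rw [← AffineSpace.homOfVector_toSpecMvPoly U.hom] at this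
      exact this
    exact IsImmersion.of_comp ι.left (AffineSpace.toSpecMvPoly A S)
  let D : (Finset A)ᵒᵖ ⥤ Sp S := (affSys S A ⋙ yon S) ⋙ prod.functor.obj X.obj
  obtain ⟨hlim⟩ := isLimit_affCone S A
  obtain ⟨hc⟩ := isLimit_prod (isLimitOfPreserves (yon S) hlim) X.obj
  let t : D ⟶ (Functor.const (Finset A)ᵒᵖ).obj X.obj :=
    { app := fun T => prod.fst
      naturality := fun T T' φ => by simp [D] }
  have hT : IsTerminal ((yon S).obj (Over.mk (𝟙 S))) := isTerminalYon S
  have hfst : ∀ n : Type u, RepWith @IsAffineHom (prod.fst : X.obj ⨯ (yon S).obj (aff n S) ⟶ X.obj) := fun n => by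
    let g : aff n S ⟶ Over.mk (𝟙 S) := Over.homMk (𝔸(n; S) ↘ S) (Category.comp_id _)
    have sq : IsPullback (prod.snd : X.obj ⨯ (yon S).obj (aff n S) ⟶ _) prod.fst (hT.from _) (hT.from _) :=
      (IsPullback.of_is_product' (prodIsProd _ _) hT).flip
    rw [hT.hom_ext (hT.from ((yon S).obj (aff n S))) ((yon S).map g)] at sq
    exact repWith_of_isPullback sq
      ((repWith_yon_map_iff _ _).2 (inferInstanceAs (IsAffineHom (𝔸(n; S) ↘ S))))
  let y : (yon S).obj U ⟶ X.obj ⨯ (yon S).obj (aff A S) := prod.lift f ((yon S).map ι)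
  have hy : RepWith @IsImmersion y := by
    have e : y = prod.lift f (𝟙 _) ≫ prod.map (𝟙 X.obj) ((yon S).map ι) := by
      exact prod.hom_ext (by simp [y]) (by simp [y])
    rw [e]
    exact repWith_comp hg (repWith_prod_map X.obj ι hι)
  obtain ⟨T₀, hT₀⟩ := eventually_immersion X D
    (fun T => isAlgSpace_prod X.property (IsAlgSpace.yon_obj _)) t
    (fun T T' φ => AlgSpDec.isAffineMor_of_repWith le_rfl (repWith_prod_map X.obj _ (isAffineHom_affMap _)))
    _ hc (fun T => AlgSpDec.isQuasiSeparatedSp_of_affine _ (hfst _) hqs) ((ofScheme S).obj U)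
    ((isQuasiCompactSp_yon_iff U).2 inferInstance) y hy (op ∅) (by
      have e : y ≫ ((prod.functor.obj X.obj).mapCone ((yon S).mapCone (affCone S A))).π.app (op ∅) ≫
          t.app (op ∅) = f := by simp [y, t]; exact prod.lift_fst _ _
      exact e.symm ▸ hf)
  let n := T₀.unop.card
  let e : {a // a ∈ T₀.unop} ≃ ULift.{u} (Fin n) := T₀.unop.equivFin.trans Equiv.ulift.symm
  let r : aff {a // a ∈ T₀.unop} S ⟶ aff (ULift.{u} (Fin n)) S := affMap e.symm
  have : IsIso r := ⟨affMap e, aff_hom_ext fun a => by simp [r, affMap],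
    aff_hom_ext fun a => by simp [r, affMap]⟩
  refine ⟨n, (y ≫ ((prod.functor.obj X.obj).mapCone ((yon S).mapCone (affCone S A))).π.app T₀) ≫
    prod.map (𝟙 X.obj) ((yon S).map r), by simp [y], ?_⟩
  have : IsIso r.left := inferInstanceAs (IsIso ((Over.forget S).map r))
  exact repWith_comp (hT₀ T₀ (𝟙 T₀)) (repWith_prod_map X.obj r inferInstance)

end Groth.Agent.DenseImm
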