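import Groth.Agent.DenseImm.Embed
import Groth.Agent.H23.RedSub
import Mathlib.AlgebraicGeometry.ZariskisMainTheorem

/-!
# Graphs whose reduction is an immersion
-/

set_option autoImplicit false
set_option linter.style.haveILetI false
set_option backward.isDefEq.respectTransparency false
set_option backward.isDefEq.respectTransparency.types false

universe u

open CategoryTheory Limits Opposite AlgebraicGeometry AlgSp Groth.Agent.AlgSpLib Groth.Agent.AlgSpPts
  Groth.Agent.LimPresLib

namespace Groth.Agent.DenseImm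

/-- A monomorphism of finite type which is an immersion after a surjection is an immersion. -/
theorem isImmersion_of_surjective {M₀ M N : Scheme.{u}} (r : M₀ ⟶ M) [Surjective r] (g : M ⟶ N) [Mono g]
    [LocallyOfFiniteType g] [IsImmersion (r ≫ g)] : IsImmersion g := by
  let O := (r ≫ g).coborderRange
  have hrange : Set.range g ⊆ Set.range O.ι := by
    rw [Scheme.Opens.range_ι]
    rintro _ ⟨m, rfl⟩
    obtain ⟨m₀, rfl⟩ := r.surjective m
    exact subset_coborder ⟨m₀, rfl⟩
  let g' := IsOpenImmersion.lift O.ι g hrange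
  have hg' : g' ≫ O.ι = g := IsOpenImmersion.lift_fac _ _ _
  have : IsClosedImmersion (r ≫ g') := by
    rw [show r ≫ g' = (r ≫ g).liftCoborder from by
      rw [← cancel_mono O.ι, Category.assoc, hg', Scheme.Hom.liftCoborder_ι]]
    infer_instance
  have : UniversallyClosed g' := .of_comp_surjective r g'
  have : Mono g' := mono_of_mono_fac hg'
  have : LocallyOfFiniteType (g' ≫ O.ι) := by rw [hg']; infer_instance
  have : LocallyOfFiniteType g' := locallyOfFiniteType_of_comp g' O.ι
  have : IsProper g' := ⟨⟩
  have : IsClosedImmersion g' := (IsClosedImmersion.iff_isProper_and_mono g').2 ⟨inferInstance, inferInstance⟩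
  rw [← hg']
  infer_instance

theorem isPullback_prod_map_fst {C : Type*} [Category C] [HasBinaryProducts C] {P Q : C} (g : P ⟶ Q) (X : C) :
    IsPullback prod.fst (prod.map g (𝟙 X)) g prod.fst := by
  refine ⟨⟨(prod.map_fst _ _).symm⟩, ⟨PullbackCone.IsLimit.mk _ (fun s => prod.lift s.fst (s.snd ≫ prod.snd))
    (fun s => prod.lift_fst _ _) (fun s => ?_) (fun s m hm₁ hm₂ => ?_)⟩⟩
  · apply prod.hom_ext
    · simpa using s.condition
    · simp
  · apply prod.hom_ext
    · rw [prod.lift_fst]
      exact hm₁
    · rw [prod.lift_snd, ← hm₂]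
      simp

theorem isPullback_graph_restrict {C : Type*} [Category C] [HasBinaryProducts C] {X D E : C} (f : D ⟶ X) (io : E ⟶ D) :
    IsPullback io (prod.lift (io ≫ f) (𝟙 E)) (prod.lift f (𝟙 D)) (prod.map (𝟙 X) io) := by
  refine ⟨⟨by apply prod.hom_ext <;> simp⟩, ⟨PullbackCone.IsLimit.mk _ (fun s => s.snd ≫ prod.snd) (fun s => ?_)
    (fun s => ?_) (fun s m _ hm₂ => ?_)⟩⟩
  · have h := congrArg (· ≫ prod.snd) s.condition
    simp at h
    simpa using h.symm
  · have h₁ := congrArg (· ≫ prod.fst) s.condition
    have h₂ := congrArg (· ≫ prod.snd) s.condition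
    simp at h₁ h₂
    apply prod.hom_ext
    · rw [Category.assoc, prod.lift_fst, ← h₁, h₂, Category.assoc, Category.assoc, Category.assoc]
    · simp
  · rw [← hm₂]
    simp

variable {S : Scheme.{u}} {X : Sp S}

theorem repWith_lift_yon {W D D₀ : Over S} (g : D₀ ⟶ W) (r : D₀ ⟶ D) [IsImmersion r.left] :
    RepWith @IsImmersion (prod.lift ((yon S).map g) ((yon S).map r)) := by
  have e : prod.lift ((yon S).map g) ((yon S).map r) = (yon S).map (prod.lift g r) ≫ prodComparison (yon S) W D := by
    apply prod.hom_ext <;> simp [prodComparison, ← Functor.map_comp]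
  rw [e]
  have : IsImmersion ((prod.lift g r).left ≫ (prod.snd : W ⨯ D ⟶ D).left) := by
    rw [← Over.comp_left, prod.lift_snd]
    infer_instance
  exact repWith_comp ((repWith_yon_map_iff _ _).2 (IsImmersion.of_comp _ (prod.snd : W ⨯ D ⟶ D).left))
    (repWith_of_isIso _ _)

set_option maxHeartbeats 800000 in
/-- Graphs are immersions as soon as the reduction lands in an affine subspace. -/
theorem repWith_graph_of_immersion (hX : IsAlgSpace X) {D : Over S} (f : (yon S).obj D ⟶ X) {W : Over S}
    (j : (yon S).obj W ⟶ X) (hj : RepWith @IsImmersion j)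
    (h : ∀ d : D.left, Points.ofPt f d ∈ Set.range (Points.map j)) :
    RepWith @IsImmersion (prod.lift f (𝟙 ((yon S).obj D))) := by
  obtain ⟨D₀', r', hr', hred, hrange⟩ := H23.RedSub.exists_reduced_subscheme D.left (S := Set.univ) isClosed_univ.isLocallyClosed
  have hrs : Surjective r' := ⟨Set.range_eq_univ.1 hrange⟩
  let D₀ : Over S := Over.mk (r' ≫ D.hom)
  let r : D₀ ⟶ D := Over.homMk r' rfl
  have : IsImmersion r.left := hr'
  have : IsReduced D₀.left := hred
  have sqp := hj.rep.isPullback ((yon S).map r ≫ f)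
  let π := hj.rep.snd ((yon S).map r ≫ f)
  have : IsImmersion π.left := hj.property_snd _
  obtain ⟨l, hl⟩ := H23.RedSub.exists_lift (𝟙 D₀.left) π.left fun x _ => by
    have hmem : x ∈ Points.ofPt ((yon S).map r ≫ f) ⁻¹' Set.range (Points.map j) := by
      show Points.ofPt ((yon S).map r ≫ f) x ∈ Set.range (Points.map j)
      rw [ofPt_comp]
      exact h _
    rw [range_preimage sqp] at hmem
    exact hmem
  let l' : D₀ ⟶ hj.rep.pullback ((yon S).map r ≫ f) := Over.homMk l (by rw [← Over.w π, reassoc_of% hl])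
  have hl' : l' ≫ π = 𝟙 D₀ := Over.OverMorphism.ext hl
  obtain ⟨g, hg⟩ := (yon S).map_surjective ((yon S).map l' ≫ hj.rep.fst ((yon S).map r ≫ f))
  have hgj : (yon S).map g ≫ j = (yon S).map r ≫ f := by
    rw [hg, Category.assoc, sqp.w, ← Category.assoc, ← Functor.map_comp, hl', CategoryTheory.Functor.map_id,
      Category.id_comp]
  have h₀ : RepWith @IsImmersion ((yon S).map r ≫ prod.lift f (𝟙 ((yon S).obj D))) := by
    have e : (yon S).map r ≫ prod.lift f (𝟙 ((yon S).obj D)) =
        prod.lift ((yon S).map g) ((yon S).map r) ≫ prod.map j (𝟙 _) := by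
      apply prod.hom_ext <;> simp [hgj]
    rw [e]
    exact repWith_comp (repWith_lift_yon g r) (repWith_of_isPullback (isPullback_prod_map_fst j _).flip.flip hj)
  let m := prod.lift f (𝟙 ((yon S).obj D))
  have hlft : RepWith @LocallyOfFiniteType m := repWith_of_isPullback (isPullback_graph f) (diag_package hX).1
  haveI : Mono m := mono_of_mono_fac (show m ≫ prod.snd = 𝟙 _ from prod.lift_snd _ _)
  refine ⟨hlft.rep, fun T M k fst snd sq => ?_⟩
  obtain ⟨fst, rfl⟩ := (yon S).map_surjective fst
  let M₀ : Over S := pullback r fst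
  have sqM : IsPullback ((yon S).map (pullback.fst r fst)) ((yon S).map (pullback.snd r fst)) ((yon S).map r)
      ((yon S).map fst) := (IsPullback.of_hasPullback r fst).map (yon S)
  have sq₀ : IsPullback ((yon S).map (pullback.fst r fst)) ((yon S).map (pullback.snd r fst ≫ snd))
      ((yon S).map r ≫ m) k := by
    rw [Functor.map_comp]
    exact sqM.paste_vert sq
  have : IsImmersion (pullback.snd r fst ≫ snd).left := h₀.2 k _ _ sq₀
  rw [Over.comp_left] at this
  have : Surjective r.left := hrs
  have : Surjective (pullback.snd r fst).left :=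
    MorphismProperty.of_isPullback ((IsPullback.of_hasPullback r fst).map (Over.forget S)) this
  have : LocallyOfFiniteType snd.left := hlft.2 k _ _ sq
  have : Mono ((yon S).map snd) := MorphismProperty.of_isPullback sq (show MorphismProperty.monomorphisms (Sp S) m from ‹Mono m›)
  have : Mono snd := (yon S).mono_of_mono_map this
  have : Mono snd.left := inferInstanceAs (Mono ((Over.forget S).map snd))
  exact isImmersion_of_surjective (pullback.snd r fst).left snd.left

set_option maxHeartbeats 800000 in
/-- Being an immersed graph is local on the source. -/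
theorem repWith_graph_of_cover (hX : IsAlgSpace X) {D : Over S} (f : (yon S).obj D ⟶ X) {ι : Type*}
    (O : ι → D.left.Opens) (hO : iSup O = ⊤)
    (h : ∀ i, RepWith @IsImmersion (prod.lift ((yon S).map (Over.homMk (O i).ι rfl : Over.mk ((O i).ι ≫ D.hom) ⟶ D) ≫ f)
      (𝟙 _))) : RepWith @IsImmersion (prod.lift f (𝟙 ((yon S).obj D))) := by
  have hrep : Representable (prod.lift f (𝟙 ((yon S).obj D))) :=
    (isAlgSpace_prod hX (IsAlgSpace.yon_obj D)).representable_from_yon _
  refine ⟨hrep, fun T M k fst snd sq => ?_⟩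
  obtain ⟨q, hq⟩ := (yon S).map_surjective (k ≫ prod.snd)
  let U : ι → T.left.Opens := fun i => q.left ⁻¹ᵁ O i
  have hU : iSup U = ⊤ := by rw [← Scheme.Hom.preimage_iSup, hO, Scheme.Hom.preimage_top]
  refine IsZariskiLocalAtTarget.of_iSup_eq_top (P := @IsImmersion) U hU fun i => ?_
  let DO : Over S := Over.mk ((O i).ι ≫ D.hom)
  let io : DO ⟶ D := Over.homMk (O i).ι rfl
  let TO : Over S := Over.mk ((U i).ι ≫ T.hom)
  let it : TO ⟶ T := Over.homMk (U i).ι rfl
  let q' : TO ⟶ DO := Over.homMk (q.left.resLE (O i) (U i) le_rfl) (by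
    show q.left.resLE (O i) (U i) le_rfl ≫ (O i).ι ≫ D.hom = (U i).ι ≫ T.hom
    rw [Scheme.Hom.resLE_comp_ι_assoc, Over.w q])
  have hq' : q' ≫ io = it ≫ q := Over.OverMorphism.ext (Scheme.Hom.resLE_comp_ι _ _)
  let MO : Over S := pullback snd it
  have sqM : IsPullback ((yon S).map (pullback.fst snd it)) ((yon S).map (pullback.snd snd it)) ((yon S).map snd)
      ((yon S).map it) := (IsPullback.of_hasPullback snd it).map (yon S)
  -- the restricted graph
  let m' := prod.lift ((yon S).map io ≫ f) (𝟙 ((yon S).obj DO))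
  have sqg := isPullback_graph_restrict f ((yon S).map io)
  have e : (yon S).map q' ≫ (yon S).map io = (yon S).map it ≫ k ≫ prod.snd := by
    rw [← Functor.map_comp, hq', Functor.map_comp, hq]
  let k' : (yon S).obj TO ⟶ X ⨯ (yon S).obj DO := prod.lift ((yon S).map it ≫ k ≫ prod.fst) ((yon S).map q')
  have hk' : k' ≫ prod.map (𝟙 X) ((yon S).map io) = (yon S).map it ≫ k := by
    apply prod.hom_ext
    · simp [k']
    · simpa [k'] using e
  have sqo : IsPullback ((yon S).map (pullback.fst snd it) ≫ fst) ((yon S).map (pullback.snd snd it))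
      (prod.lift f (𝟙 ((yon S).obj D))) (k' ≫ prod.map (𝟙 X) ((yon S).map io)) := by
    rw [hk']
    exact sqM.paste_horiz sq
  obtain ⟨c, hc⟩ : ∃ c, c ≫ (yon S).map io = (yon S).map (pullback.fst snd it) ≫ fst ∧
      c ≫ m' = (yon S).map (pullback.snd snd it) ≫ k' :=
    ⟨sqg.lift _ _ (sqo.w.trans (Category.assoc _ _ _).symm), sqg.lift_fst _ _ _, sqg.lift_snd _ _ _⟩
  have sq' : IsPullback c ((yon S).map (pullback.snd snd it)) m' k' :=
    IsPullback.of_right (by rw [hc.1]; exact sqo) hc.2 sqg
  have := (h i).2 k' c (pullback.snd snd it) sq'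
  have sqs : IsPullback (pullback.fst snd it).left (pullback.snd snd it).left snd.left (U i).ι :=
    (IsPullback.of_hasPullback snd it).map (Over.forget S)
  have hE := sqs.isoIsPullback_inv_snd _ _ (isPullback_morphismRestrict snd.left (U i)).flip
  refine (MorphismProperty.arrow_mk_iso_iff @IsImmersion (Arrow.isoMk
    (sqs.isoIsPullback _ _ (isPullback_morphismRestrict snd.left (U i)).flip).symm (Iso.refl _) ?_)).2 this
  exact hE.trans (Category.comp_id _).symm

end Groth.Agent.DenseImm
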