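import Groth.Agent.DenseImm.Graph
import Groth.Agent.AlgSpDec.DecentDense
import Groth.Agent.AlgSpDec.LimAffineBase
import Groth.Agent.AlgSpDec.LimDescent
import Groth.Agent.AlgSpVal.DvrSep
import Groth.Agent.S10496
import Groth.Agent.AlgSpInd.Basic

/-!
# Dense open subschemes immersed in affine spaces
-/

set_option autoImplicit false
set_option linter.style.haveILetI false
set_option backward.isDefEq.respectTransparency false
set_option backward.isDefEq.respectTransparency.types false

universe u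

open CategoryTheory Limits Opposite AlgebraicGeometry AlgSp Groth.Agent.AlgSpLib Groth.Agent.AlgSpPts
  Groth.Agent.LimPresLib
open Topology TopologicalSpace
open Groth.Agent.AlgSpDec (mono_of_openImm exists_affine_atlas isOpenEmbedding_map' isDecent_of_isQuasiSeparatedSp
  exists_dense_open_subscheme_of_isDecent isQuasiCompactSp_of_mor)

namespace Groth.Agent.DenseImm

variable {S : Scheme.{u}}

theorem noetherianSpace_of_subscheme {Y : Sp S} {U : Over S} (a : (yon S).obj U ⟶ Y)
    (has : RepWith @Surjective a) [NoetherianSpace ↥U.left] {T : Over S} (j : (yon S).obj T ⟶ Y)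
    (hY : IsAlgSpace Y) (hj : RepWith @IsOpenImmersion j) : NoetherianSpace ↥T.left := by
  haveI : NoetherianSpace (Points Y) :=
    noetherianSpace_of_surjective (Points.ofPt a) (Points.continuous_ofPt a) (surjective_ofPt has)
  exact ((isOpenEmbedding_map' hY hj).isInducing.comp (Points.schemeHomeo T).isInducing).noetherianSpace

/-- A point of a quasi-separated space lies in an affine subspace. -/
theorem exists_affine_subspace [QuasiSeparatedSpace ↥S] (X : Space S) (hqs : IsQuasiSeparatedSp X.obj)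
    (x : Points X.obj) :
    ∃ (W : Over S) (j : (yon S).obj W ⟶ X.obj), RepWith @IsImmersion j ∧ x ∈ Set.range (Points.map j) := by
  have hdec := isDecent_of_isQuasiSeparatedSp X.property hqs
  obtain ⟨Z, i, hi, -, hr⟩ := Groth.Agent.S10496.result X hdec (closure {x}) isClosed_closure
    (isIrreducible_singleton.closure)
  have hiq : IsQuasiSeparatedSp Z.obj := AlgSpDec.isQuasiSeparatedSp_of_affine _
    (repWith_mono (fun _ _ e (_ : IsClosedImmersion e) => inferInstanceAs (IsAffineHom e)) _ hi) hqs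
  obtain ⟨Z', k, hk, hrep, hd⟩ :=
    exists_dense_open_subscheme_of_isDecent Z (isDecent_of_isQuasiSeparatedSp Z.property hiq)
  obtain ⟨T, ⟨r⟩⟩ := hrep.has_representation
  let e : (yon S).obj T ≅ Z'.obj := AlgSp.isoOfRepresentableBy r
  have himm : RepWith @IsImmersion (e.hom ≫ k.hom ≫ i.hom) :=
    repWith_comp (repWith_of_isIso _ _) (repWith_comp
      (repWith_mono (fun _ _ e (_ : IsOpenImmersion e) => inferInstanceAs (IsImmersion e)) _ hk)
      (repWith_mono (fun _ _ e (_ : IsClosedImmersion e) => inferInstanceAs (IsImmersion e)) _ hi))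
  refine ⟨T, _, himm, ?_⟩
  obtain ⟨z, hz⟩ := hr.ge (subset_closure rfl)
  have hne : (Set.range (Points.map k.hom)).Nonempty := by
    by_contra hh
    rw [Set.not_nonempty_iff_eq_empty] at hh
    have := hd.closure_eq
    rw [hh, closure_empty] at this
    exact (this ▸ Set.mem_univ z : z ∈ (∅ : Set (Points Z.obj)))
  -- `x` is a generization of every point of `Z`
  have hspec : z ∈ Set.range (Points.map k.hom) := by
    obtain ⟨z', hz'⟩ := hne
    have hzz : z' ∈ closure {z} := by
      have hemb := AlgSpPts.isEmbedding_map X.property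
        (repWith_mono (fun _ _ e (_ : IsClosedImmersion e) => inferInstanceAs (IsImmersion e)) _ hi)
      rw [hemb.isInducing.closure_eq_preimage_closure_image, Set.image_singleton, hz]
      exact hr.le ⟨z', rfl⟩
    exact (specializes_iff_mem_closure.2 hzz).mem_open (AlgSpDec.isOpen_range_openImm Z.property hk) hz'
  obtain ⟨z', rfl⟩ := hspec
  refine ⟨Points.map e.inv z', ?_⟩
  rw [← Points.map_comp, e.inv_hom_id_assoc, Points.map_comp, hz]

set_option maxHeartbeats 1600000 in
theorem exists_dense_open_immersion [QuasiSeparatedSpace ↥S] {Y X : Space S} (f : Y ⟶ X)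
    (hf : IsFinitePresentationMor f.hom) (hXqc : IsQuasiCompactSp X.obj) (hXqs : IsQuasiSeparatedSp X.obj)
    (hXln : IsLocNoethSp X.obj) :
    ∃ (V : Space S) (j : V ⟶ Y) (n : ℕ)
      (i : V.obj ⟶ X.obj ⨯ (yon S).obj (Over.mk (𝔸(ULift.{u} (Fin n); S) ↘ S))),
      RepWith @IsOpenImmersion j.hom ∧ Dense (Set.range (Points.map j.hom)) ∧
      i ≫ prod.fst = j.hom ≫ f.hom ∧ RepWith @IsImmersion i := by
  classical
  obtain ⟨hlfp, hfqc, hfqs⟩ := hf
  have hft : LocP @LocallyOfFiniteType f.hom :=
    locP_mono (fun _ _ g (_ : LocallyOfFinitePresentation g) => inferInstanceAs (LocallyOfFiniteType g)) hlfp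
  have hYln : IsLocNoethSp Y.obj := AlgSpVal.isLocNoethSp_of_lft Y.property X.property f.hom hft hXln
  have hYqc : IsQuasiCompactSp Y.obj := isQuasiCompactSp_of_mor X.property hfqc hXqc
  have hYqs : IsQuasiSeparatedSp Y.obj := by
    rw [isQuasiSeparatedSp_iff_mor, (isTerminalYon S).hom_ext ((isTerminalYon S).from Y.obj)
      (f.hom ≫ (isTerminalYon S).from _)]
    exact isQuasiSeparatedMor_comp hfqs ((isQuasiSeparatedSp_iff_mor _).1 hXqs)
  obtain ⟨U, a, hU, ha, has⟩ := exists_affine_atlas hYqc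
  have : IsAffine U.left := hU
  have : IsLocallyNoetherian U.left := AlgSpDec.isLocallyNoetherian_chart ha hYln
  have : AlgebraicGeometry.IsNoetherian U.left := {}
  obtain ⟨Y₀, j₀, hj₀, hrep, hd₀⟩ :=
    exists_dense_open_subscheme_of_isDecent Y (isDecent_of_isQuasiSeparatedSp Y.property hYqs)
  obtain ⟨T, ⟨r⟩⟩ := hrep.has_representation
  let e : (yon S).obj T ≅ Y₀.obj := AlgSp.isoOfRepresentableBy r
  let jT : (yon S).obj T ⟶ Y.obj := e.hom ≫ j₀.hom
  have hjT : RepWith @IsOpenImmersion jT := repWith_comp (repWith_of_isIso _ _) hj₀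
  haveI : NoetherianSpace ↥T.left := noetherianSpace_of_subscheme a has jT Y.property hjT
  let C : Type u := {c : Set ↥T.left // c ∈ irreducibleComponents ↥T.left}
  haveI : Finite C := (NoetherianSpace.finite_irreducibleComponents (α := ↥T.left)).to_subtype
  have hCc : ∀ c : C, IsClosed c.1 := fun c => isClosed_of_mem_irreducibleComponents _ c.2
  have hCi : ∀ c : C, IsIrreducible c.1 := fun c => c.2.1
  have hCmem : ∀ t : T.left, ∃ c : C, t ∈ c.1 := fun t =>
    ⟨⟨_, irreducibleComponent_mem_irreducibleComponents t⟩, mem_irreducibleComponent⟩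
  let O : C → T.left.Opens := fun c =>
    ⟨(⋃ d ∈ {d : C | d ≠ c}, d.1)ᶜ, ((Set.toFinite _).isClosed_biUnion fun d _ => hCc d).isOpen_compl⟩
  have hOsub : ∀ c, (O c : Set ↥T.left) ⊆ c.1 := fun c t ht => by
    obtain ⟨d, hd⟩ := hCmem t
    by_cases hdc : d = c
    · exact hdc ▸ hd
    · exact (ht (Set.mem_biUnion (show d ∈ {d : C | d ≠ c} from hdc) hd)).elim
  have hη : ∀ c : C, (hCi c).genericPoint ∈ O c := fun c => by
    intro hmem
    obtain ⟨d, hdc, hd⟩ := Set.mem_iUnion₂.1 hmem
    have hle : c.1 ⊆ d.1 := by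
      rw [← (hCc c).closure_eq, ← (hCi c).isGenericPoint_genericPoint_closure.def]
      exact (hCc d).closure_subset_iff.2 (Set.singleton_subset_iff.2 hd)
    exact hdc (Subtype.ext (Set.Subset.antisymm (c.2.2 (hCi d) hle) hle))
  have hD : ∀ c : C, ∃ (D : T.left.Opens) (W : Over S) (j : (yon S).obj W ⟶ X.obj), IsAffineOpen D ∧
      (hCi c).genericPoint ∈ D ∧ D ≤ O c ∧ RepWith @IsImmersion j ∧
      ∀ t ∈ D, Points.ofPt (jT ≫ f.hom) t ∈ Set.range (Points.map j) := fun c => by
    obtain ⟨W, j, hj, hx⟩ := exists_affine_subspace X hXqs (Points.ofPt (jT ≫ f.hom) (hCi c).genericPoint)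
    let L := Points.ofPt (jT ≫ f.hom) ⁻¹' Set.range (Points.map j)
    have hL : IsLocallyClosed L :=
      (AlgSpPts.isLocallyClosed_range X.property hj).preimage (Points.continuous_ofPt _)
    obtain ⟨A, K, hA, hK, hAK⟩ := hL
    have hηL : (hCi c).genericPoint ∈ L := hx
    rw [hAK] at hηL
    obtain ⟨D, hD, hηD, hDle⟩ := exists_isAffineOpen_mem_and_subset (U := O c ⊓ ⟨A, hA⟩)
      (x := (hCi c).genericPoint) ⟨hη c, hηL.1⟩
    refine ⟨D, W, j, hD, hηD, fun t ht => (hDle ht).1, hj, fun t ht => ?_⟩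
    show t ∈ L
    rw [hAK]
    refine ⟨(hDle ht).2, ?_⟩
    have hcK : c.1 ⊆ K := by
      rw [← (hCc c).closure_eq, ← (hCi c).isGenericPoint_genericPoint_closure.def]
      exact hK.closure_subset_iff.2 (Set.singleton_subset_iff.2 hηL.2)
    exact hcK (hOsub c (hDle ht).1)
  choose D W jW hDaff hDη hDO hjW hDW using hD
  have hdisj : Pairwise (Function.onFun Disjoint D) := fun c d hcd => by
    refine Disjoint.mono (hDO c) (hDO d) ?_
    rw [disjoint_iff, eq_bot_iff]
    rintro t ⟨htc, htd⟩
    exact (htd (Set.mem_biUnion (show c ∈ {c : C | c ≠ d} from hcd) (hOsub c htc))).elim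
  let Dt : T.left.Opens := ⨆ c, D c
  have hDt : IsAffineOpen Dt := IsAffineOpen.iSup_of_disjoint hDaff hdisj
  let V : Over S := Over.mk (Dt.ι ≫ T.hom)
  let ι : V ⟶ T := Over.homMk Dt.ι rfl
  have : IsAffine V.left := hDt
  let jV : (yon S).obj V ⟶ Y.obj := (yon S).map ι ≫ jT
  have hjV : RepWith @IsOpenImmersion jV :=
    repWith_comp ((repWith_yon_map_iff _ _).2 (inferInstanceAs (IsOpenImmersion Dt.ι))) hjT
  have hdense : Dense (Set.range (Points.map jV)) := by
    have hT : Dense (Dt : Set ↥T.left) := fun t => by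
      obtain ⟨c, hc⟩ := hCmem t
      rw [← (hCc c).closure_eq, ← (hCi c).isGenericPoint_genericPoint_closure.def] at hc
      exact closure_mono (Set.singleton_subset_iff.2
        (show (hCi c).genericPoint ∈ Dt from Opens.mem_iSup.2 ⟨c, hDη c⟩)) hc
    have hr : Set.range (Points.map jV) = Points.ofPt jT '' (Dt : Set ↥T.left) := by
      rw [AlgSpInd.range_map_yon]
      ext y
      constructor
      · rintro ⟨v, rfl⟩
        exact ⟨ι.left v, by
          rw [← Scheme.Opens.range_ι Dt]
          exact ⟨v, rfl⟩, (ofPt_comp ι jT v).symm⟩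
      · rintro ⟨t, ht, rfl⟩
        rw [← Scheme.Opens.range_ι Dt] at ht
        obtain ⟨v, rfl⟩ := ht
        exact ⟨v, ofPt_comp ι jT v⟩
    rw [hr]
    refine DenseRange.dense_image ?_ (Points.continuous_ofPt _) hT
    have h2 : Set.range (Points.ofPt jT) = Set.range (Points.map j₀.hom) := by
      rw [← AlgSpInd.range_map_yon]
      refine Set.Subset.antisymm ?_ ?_
      · rintro _ ⟨z, rfl⟩
        exact ⟨Points.map e.hom z, (Points.map_comp _ _ _).symm⟩
      · rintro _ ⟨z, rfl⟩
        exact ⟨Points.map e.inv z, by rw [← Points.map_comp, e.inv_hom_id_assoc]⟩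
    show Dense (Set.range (Points.ofPt jT))
    rw [h2]
    exact hd₀
  have hg : RepWith @IsImmersion (prod.lift (jV ≫ f.hom) (𝟙 ((yon S).obj V))) := by
    refine repWith_graph_of_cover X.property _ (fun c => Dt.ι ⁻¹ᵁ D c) ?_ fun c => ?_
    · rw [eq_top_iff]
      intro v _
      obtain ⟨c, hc⟩ := Opens.mem_iSup.1 v.2
      exact Opens.mem_iSup.2 ⟨c, hc⟩
    · refine repWith_graph_of_immersion X.property _ (jW c) (hjW c) fun d => ?_
      rw [ofPt_comp, show jV ≫ f.hom = (yon S).map ι ≫ jT ≫ f.hom from Category.assoc _ _ _, ofPt_comp]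
      exact hDW c _ d.2
  have hlft : LocP @LocallyOfFiniteType (jV ≫ f.hom) :=
    locP_comp (IsAlgSpace.yon_obj V) Y.property X.property
      (locP_of_repWith (repWith_mono (fun _ _ g (_ : IsOpenImmersion g) =>
        inferInstanceAs (LocallyOfFiniteType g)) _ hjV)) hft
  obtain ⟨n, i, hi, himm⟩ := exists_immersion_affineSpace_of_graph X hXqs V (jV ≫ f.hom) hg hlft
  exact ⟨⟨(yon S).obj V, IsAlgSpace.yon_obj V⟩, ObjectProperty.homMk jV, n, i, hjV, hdense, hi, himm⟩

end Groth.Agent.DenseImm
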